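import Cfsg.Agent.H19.Fitting
import Cfsg.Agent.H19.Cores
import Mathlib

/-!
Odd order groups of automorphisms of elementary abelian `2`-groups of order at most `64`.
-/

set_option autoImplicit false

namespace Cfsg.Agent.H91.OddOnTwo

open Subgroup

/-- The order of the automorphism group of an elementary abelian `2`-group. -/
theorem card_mulAut_dvd {V : Type*} [CommGroup V] [Finite V] {n : ℕ} (h2 : ∀ v : V, v ^ 2 = 1)
    (hn : Nat.card V = 2 ^ n) : Nat.card (MulAut V) ∣ ∏ i : Fin n, (2 ^ n - 2 ^ (i : ℕ)) := by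
  letI : Module (ZMod 2) (Additive V) := AddCommGroup.zmodModule fun v => by
    obtain ⟨v, rfl⟩ := Additive.ofMul.surjective v
    rw [← ofMul_pow, h2, ofMul_one]
  have hr : Module.finrank (ZMod 2) (Additive V) = n := by
    have h := Module.natCard_eq_pow_finrank (K := ZMod 2) (V := Additive V)
    rw [Nat.card_congr Additive.toMul, hn, Nat.card_zmod] at h
    exact (Nat.pow_right_injective le_rfl h).symm
  have bas : Module.Basis (Fin n) (ZMod 2) (Additive V) :=
    (Module.finBasis (ZMod 2) (Additive V)).reindex (finCongr hr)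
  let toLin : MulAut V →* Module.End (ZMod 2) (Additive V) :=
    { toFun := fun φ => (MonoidHom.toAdditive φ.toMonoidHom).toZModLinearMap 2
      map_one' := LinearMap.ext fun _ => rfl
      map_mul' := fun _ _ => LinearMap.ext fun _ => rfl }
  let f : MulAut V →* GL (Fin n) (ZMod 2) :=
    ((LinearMap.toMatrixAlgEquiv bas).toRingEquiv.toMonoidHom.comp toLin).toHomUnits
  have hf : Function.Injective f := by
    intro φ ψ h
    have h2 : toLin φ = toLin ψ :=
      (LinearMap.toMatrixAlgEquiv bas).injective (congrArg Units.val h)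
    exact MulEquiv.ext fun v => congrArg Additive.toMul (LinearMap.congr_fun h2 (Additive.ofMul v))
  have := card_dvd_of_injective f hf
  rwa [Matrix.card_GL_field, ZMod.card] at this

/-- An automorphism of `r`-power order `r` centralises a group of order `s ^ k` when `r` divides no
`s ^ i - 1` with `i ≤ k`. -/
theorem commute_of_not_dvd {G : Type*} [Group G] [Finite G] {r s k : ℕ} [Fact r.Prime] [Fact s.Prime]
    {P R : Subgroup G} (hP : IsPGroup r P) (hR : IsPGroup s R) (hk : Nat.card R ∣ s ^ k)
    (hPR : P ≤ normalizer (R : Set G)) (hrs : r ≠ s) (hno : ∀ i, 0 < i → i ≤ k → ¬ r ∣ s ^ i - 1) :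
    P ≤ centralizer (R : Set G) := by
  intro x hx
  letI : MulAction P R :=
    { smul := fun t u => ⟨(t : G) * u * (t : G)⁻¹, (mem_normalizer_iff.1 (hPR t.2) _).1 u.2⟩
      one_smul := fun u => Subtype.ext (show (1 : G) * u * (1 : G)⁻¹ = u by group)
      mul_smul := fun a b u => Subtype.ext (show (↑a * ↑b : G) * u * (↑a * ↑b : G)⁻¹ =
        ↑a * (↑b * u * (↑b : G)⁻¹) * (↑a : G)⁻¹ by group) }
  have hsm : ∀ (t : P) (u : R), ((t • u : R) : G) = t * u * (t : G)⁻¹ := fun _ _ => rfl
  set F := R ⊓ centralizer (P : Set G) with hF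
  have hfix : Nat.card (MulAction.fixedPoints P R) = Nat.card F := by
    refine Nat.card_congr
      { toFun := fun u => ⟨(u.1 : G), u.1.2, mem_centralizer_iff.2 fun t ht => ?_⟩
        invFun := fun u => ⟨⟨u.1, u.2.1⟩, fun t => Subtype.ext ?_⟩
        left_inv := fun u => rfl
        right_inv := fun u => rfl }
    · have := congrArg Subtype.val (u.2 ⟨t, ht⟩)
      rw [hsm] at this
      exact mul_inv_eq_iff_eq_mul.1 this
    · rw [hsm]
      exact mul_inv_eq_iff_eq_mul.2 (mem_centralizer_iff.1 u.2.2 t t.2)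
  have hmod := hP.card_modEq_card_fixedPoints R
  rw [hfix] at hmod
  obtain ⟨a, hak, ha⟩ := (Nat.dvd_prime_pow (Fact.out : s.Prime)).1 hk
  obtain ⟨b, hba, hb⟩ := (Nat.dvd_prime_pow (Fact.out : s.Prime)).1
    (ha ▸ card_dvd_of_le (inf_le_left : F ≤ R))
  rw [ha, hb] at hmod
  rcases Nat.eq_or_lt_of_le hba with rfl | hlt
  · have : F = R := eq_of_le_of_card_ge inf_le_left (by rw [hb, ha])
    refine mem_centralizer_iff.2 fun u hu => ?_
    exact (mem_centralizer_iff.1 ((this ▸ hu : u ∈ F)).2 x hx).symm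
  exfalso
  have h1 := (Nat.modEq_iff_dvd' (Nat.pow_le_pow_right (Fact.out : s.Prime).pos hba)).1 hmod.symm
  rw [show s ^ a - s ^ b = s ^ b * (s ^ (a - b) - 1) by
    rw [Nat.mul_sub, mul_one, ← pow_add, Nat.add_sub_cancel' hba]] at h1
  rcases (Fact.out : r.Prime).dvd_mul.1 h1 with h | h
  · exact hrs ((Nat.prime_dvd_prime_iff_eq Fact.out Fact.out).1 ((Fact.out : r.Prime).dvd_of_dvd_pow h))
  · exact hno (a - b) (Nat.sub_pos_of_lt hlt) (le_trans (Nat.sub_le a b) hak) h

/-- A group all of whose elements of the prime order `r` parts centralise the other cores has an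
abelian normal Sylow `r`-subgroup. -/
theorem sylow_normal_of_bound {L : Type*} [Group L] [Finite L] [Group.IsSolvable L] {r : ℕ}
    [Fact r.Prime] (hr2 : Nat.card L ∣ 3 ^ 4 * (5 * (7 ^ 2 * 31))) (hr : r = 7) :
    ∀ P : Sylow r L, (P : Subgroup L).Normal ∧ IsMulCommutative (P : Subgroup L) := by
  subst hr
  intro P
  have hPc : ∃ j, Nat.card (P : Subgroup L) = 7 ^ j ∧ j ≤ 2 := by
    obtain ⟨j, hj⟩ := P.2.exists_card_eq
    refine ⟨j, hj, ?_⟩
    have h : 7 ^ j ∣ 3 ^ 4 * (5 * (7 ^ 2 * 31)) := hj ▸ (card_subgroup_dvd_card _).trans hr2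
    by_contra hlt
    exact absurd ((pow_dvd_pow 7 (by omega : 3 ≤ j)).trans h) (by decide)
  have hcomm : IsMulCommutative (P : Subgroup L) := by
    obtain ⟨j, hj, hj2⟩ := hPc
    interval_cases j
    · haveI := (Nat.card_eq_one_iff_unique.1 (hj.trans (pow_zero _))).1
      exact ⟨⟨fun a b => Subsingleton.elim _ _⟩⟩
    · haveI := isCyclic_of_prime_card (p := 7) (by simpa using hj)
      infer_instance
    · exact IsPGroup.isMulCommutative_of_card_eq_prime_sq hj
  refine ⟨?_, hcomm⟩
  set R := Cfsg.pCore 7 L with hR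
  have hRP : R ≤ (P : Subgroup L) := H19.pCore_le_sylow P
  suffices (P : Subgroup L) ≤ centralizer ((Cfsg.fittingSubgroup L : Subgroup L) : Set L) by
    have hF := this.trans H19.centralizer_fitting_le
    have hPn : (P : Subgroup L) = R := by
      refine le_antisymm ?_ hRP
      haveI := H19.fitting_normal L
      haveI := H19.fitting_isNilpotent (G := L)
      set F := Cfsg.fittingSubgroup L with hFdef
      set Q := P.subtype hF with hQ
      have hQn : (Q : Subgroup F).Normal :=
        inferInstance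
      haveI := Q.characteristic_of_normal hQn
      have hn : ((Q : Subgroup F).map F.subtype).Normal := ConjAct.normal_of_characteristic_of_normal
      rw [hQ, Sylow.coe_subtype, map_subgroupOf_eq_of_le hF] at hn
      exact H19.le_pCore hn P.2
    rw [hPn]; exact H19.pCore_normal 7 L
  rw [H19.fitting_eq_iSup_pCore, le_centralizer_iff, iSup_le_iff]
  intro s
  rw [le_centralizer_iff]
  haveI : Fact (s : ℕ).Prime := ⟨s.2⟩
  set Rs := Cfsg.pCore (s : ℕ) L with hRs
  by_cases hs7 : (s : ℕ) = 7
  · intro x hx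
    refine mem_centralizer_iff.2 fun u hu => ?_
    have huP : u ∈ (P : Subgroup L) := hRP (by rw [hR]; rw [hRs, hs7] at hu; exact hu)
    exact setLike_mul_comm huP hx
  obtain ⟨a, ha⟩ := (H19.pCore_isPGroup (G := L) (s : ℕ)).exists_card_eq
  have hdvd : (s : ℕ) ^ a ∣ 3 ^ 4 * (5 * (7 ^ 2 * 31)) := ha ▸ (card_subgroup_dvd_card _).trans hr2
  have hnorm : (P : Subgroup L) ≤ normalizer (Rs : Set L) :=
    le_top.trans_eq (normalizer_eq_top_iff.2 (H19.pCore_normal (s : ℕ) L)).symm
  rcases Nat.eq_zero_or_pos a with h0 | hpos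
  · have hbot : Rs = ⊥ := eq_bot_of_card_eq _ (by rw [ha, h0, pow_zero])
    rw [hbot]
    intro x _
    exact mem_centralizer_iff.2 fun u hu => by rw [mem_bot.1 hu, one_mul, mul_one]
  have hs : (s : ℕ) = 3 ∧ a ≤ 4 ∨ (s : ℕ) = 5 ∧ a ≤ 1 ∨ (s : ℕ) = 31 ∧ a ≤ 1 := by
    have hd := (dvd_pow_self (s : ℕ) hpos.ne').trans hdvd
    have hsp := s.2
    rcases hsp.dvd_mul.1 hd with h | h
    · have := (Nat.prime_dvd_prime_iff_eq hsp Nat.prime_three).1 (hsp.dvd_of_dvd_pow h)
      refine Or.inl ⟨this, ?_⟩
      by_contra hlt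
      rw [this] at hdvd
      exact absurd ((pow_dvd_pow 3 (by omega : 5 ≤ a)).trans hdvd) (by decide)
    rcases hsp.dvd_mul.1 h with h | h
    · have := (Nat.prime_dvd_prime_iff_eq hsp (by norm_num)).1 h
      refine Or.inr (Or.inl ⟨this, ?_⟩)
      by_contra hlt
      rw [this] at hdvd
      exact absurd ((pow_dvd_pow 5 (by omega : 2 ≤ a)).trans hdvd) (by decide)
    rcases hsp.dvd_mul.1 h with h | h
    · exact absurd ((Nat.prime_dvd_prime_iff_eq hsp (by norm_num)).1 (hsp.dvd_of_dvd_pow h)) hs7
    · have := (Nat.prime_dvd_prime_iff_eq hsp (by norm_num)).1 h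
      refine Or.inr (Or.inr ⟨this, ?_⟩)
      by_contra hlt
      rw [this] at hdvd
      exact absurd ((pow_dvd_pow 31 (by omega : 2 ≤ a)).trans hdvd) (by decide)
  refine commute_of_not_dvd (r := 7) (s := (s : ℕ)) (k := a) P.2 (H19.pCore_isPGroup _)
    (by rw [ha]) hnorm (Ne.symm hs7) fun i hi hia => ?_
  rcases hs with ⟨e, h⟩ | ⟨e, h⟩ | ⟨e, h⟩ <;> rw [e] <;>
    interval_cases a <;> interval_cases i <;> norm_num

/-- A group of order dividing `45` is commutative. -/
theorem commute_of_dvd_45 {L : Type*} [Group L] [Finite L] (h : Nat.card L ∣ 45) (a b : L) :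
    Commute a b := by
  have hn : ∀ (r : ℕ) [Fact r.Prime] (P : Sylow r L), (P : Subgroup L).Normal := by
    intro r hr P
    have hd : Nat.card (Sylow r L) ∣ 45 :=
      (Sylow.card_dvd_index P).trans (P.index_dvd_card.trans h)
    have hm : Nat.card (Sylow r L) ≡ 1 [MOD r] := card_sylow_modEq_one r L
    have hone : Nat.card (Sylow r L) = 1 := by
      by_cases hrL : r ∣ Nat.card L
      · have hr45 : r ∈ Nat.divisors 45 := Nat.mem_divisors.2 ⟨hrL.trans h, by norm_num⟩
        have hi : Nat.card (Sylow r L) * r ∣ 45 := by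
          obtain ⟨k, hk⟩ := P.2.exists_card_eq
          have hk0 : k ≠ 0 := by
            rintro rfl
            exact P.not_dvd_index (by
              rw [← card_mul_index (P : Subgroup L), hk, pow_zero, one_mul] at hrL; exact hrL)
          refine dvd_trans ?_ h
          rw [← card_mul_index (P : Subgroup L), hk, mul_comm (r ^ k)]
          exact Nat.mul_dvd_mul (Sylow.card_dvd_index P) (dvd_pow_self r hk0)
        have hN : Nat.card (Sylow r L) ∈ Nat.divisors 45 := Nat.mem_divisors.2 ⟨hd, by norm_num⟩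
        have hp := hr.out
        generalize Nat.card (Sylow r L) = N at *
        rw [show Nat.divisors 45 = {1, 3, 5, 9, 15, 45} by decide] at hr45 hN
        simp only [Finset.mem_insert, Finset.mem_singleton] at hr45 hN
        rcases hr45 with rfl | rfl | rfl | rfl | rfl | rfl <;>
          rcases hN with rfl | rfl | rfl | rfl | rfl | rfl <;>
          first | rfl | (norm_num at hp; done) | (norm_num at hi; done) | (norm_num [Nat.ModEq] at hm; done)
      · have hbot : (P : Subgroup L) = ⊥ := by
          obtain ⟨k, hk⟩ := P.2.exists_card_eq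
          refine eq_bot_of_card_eq _ ?_
          rcases Nat.eq_zero_or_pos k with h0 | hpos
          · rw [hk, h0, pow_zero]
          · exact absurd ((dvd_pow_self r hpos.ne').trans (hk ▸ card_subgroup_dvd_card _)) hrL
        haveI : Subsingleton (Sylow r L) := ⟨fun A B => by
          obtain ⟨g, hg⟩ := MulAction.exists_smul_eq L P A
          obtain ⟨g', hg'⟩ := MulAction.exists_smul_eq L P B
          refine Sylow.ext ?_
          rw [← hg, ← hg', Sylow.coe_subgroup_smul, Sylow.coe_subgroup_smul, hbot, smul_bot,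
            smul_bot]⟩
        exact Nat.card_of_subsingleton P
    haveI := (Nat.card_eq_one_iff_unique.1 hone).1
    exact P.normal_of_subsingleton
  let e := (Sylow.directProductOfNormal (G := L) fun {r} _ P => hn r P).symm
  apply e.injective
  rw [map_mul, map_mul]
  funext r P
  rcases r with ⟨r, hr⟩
  haveI : Fact r.Prime := ⟨Nat.prime_of_mem_primeFactors hr⟩
  obtain ⟨k, hk⟩ := (P : Sylow r L).2.exists_card_eq
  have hd : r ^ k ∣ 45 := hk ▸ (card_subgroup_dvd_card _).trans h
  have hk2 : k ≤ 2 := by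
    by_contra hlt
    have h3 : r ^ 3 ∣ 45 := (pow_dvd_pow r (by omega)).trans hd
    have hr' := (Fact.out : r.Prime).two_le
    have : r ≤ 3 := by
      by_contra hr4
      have := Nat.le_of_dvd (by norm_num) h3
      have : 4 ^ 3 ≤ r ^ 3 := Nat.pow_le_pow_left (by omega) 3
      omega
    interval_cases r <;> norm_num at h3
  haveI : IsMulCommutative (P : Subgroup L) := by
    interval_cases k
    · haveI := (Nat.card_eq_one_iff_unique.1 (hk.trans (pow_zero _))).1
      exact ⟨⟨fun a b => Subsingleton.elim _ _⟩⟩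
    · haveI := isCyclic_of_prime_card (p := r) (by simpa using hk)
      infer_instance
    · exact IsPGroup.isMulCommutative_of_card_eq_prime_sq hk
  exact mul_comm' _ _

end Cfsg.Agent.H91.OddOnTwo
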